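import Mathlib
import Groth.Prelude.Def_CInt

/-!
# Schematic density along a flat morphism, from the kernels on an affine cover
-/

set_option autoImplicit false
set_option linter.style.haveILetI false
universe u

namespace Groth.Agent.SchDenseLim

open AlgebraicGeometry CategoryTheory TopologicalSpace TensorProduct

/-- If `b` in a flat `A`-algebra is killed by `g l ^ N`, it is a combination of images of elements
killed by the `g l ^ N`. -/
theorem eq_zero_of_flat {A B : Type u} [CommRing A] [CommRing B] [Algebra A B] [Module.Flat A B]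
    {n : ℕ} (g : Fin n → A) (N : ℕ) (b : B) (hb : ∀ l, algebraMap A B (g l) ^ N * b = 0)
    (h0 : ∀ a : A, (∀ l, g l ^ N * a = 0) → algebraMap A B a = 0) : b = 0 := by
  let Φ : A →ₗ[A] (Fin n → A) := LinearMap.pi fun l => LinearMap.mulLeft A (g l ^ N)
  have hex : Function.Exact (LinearMap.ker Φ).subtype Φ := LinearMap.exact_subtype_ker_map Φ
  have hex' := Module.Flat.lTensor_exact B hex
  have hmem : (b ⊗ₜ[A] (1 : A)) ∈ LinearMap.ker (LinearMap.lTensor B Φ) := by
    rw [LinearMap.mem_ker]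
    apply (TensorProduct.piScalarRight A A B (Fin n)).injective
    rw [map_zero]
    funext l
    simp only [LinearMap.lTensor_tmul, TensorProduct.piScalarRight_apply, TensorProduct.piScalarRightHom_tmul]
    simp [Φ, Algebra.smul_def, hb l]
  obtain ⟨z, hz⟩ := (hex' (b ⊗ₜ[A] (1 : A))).1 hmem
  have key : ∀ z : B ⊗[A] LinearMap.ker Φ,
      TensorProduct.rid A B (LinearMap.lTensor B (LinearMap.ker Φ).subtype z) = 0 := by
    intro z
    induction z with
    | zero => simp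
    | tmul x a =>
      have ha : ∀ l, g l ^ N * a.1 = 0 := fun l => congrFun (LinearMap.mem_ker.1 a.2) l
      simp [Algebra.smul_def, h0 a.1 ha]
    | add x y hx hy => rw [map_add, map_add, hx, hy, add_zero]
  have := key z
  rw [hz, TensorProduct.rid_tmul, one_smul] at this
  exact this

/-- Sections over an affine open vanishing on the trace of an open. -/
theorem map_inf_eq_zero_iff {X : Scheme.{u}} {V : X.Opens} (hV : IsAffineOpen V) (U : X.Opens) {n : ℕ}
    (g : Fin n → Γ(X, V)) (hg : (⨆ l, X.basicOpen (g l)) = V ⊓ U) (s : Γ(X, V)) :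
    X.presheaf.map (homOfLE (inf_le_left : V ⊓ U ≤ V)).op s = 0 ↔
      ∃ N : ℕ, ∀ l, g l ^ N * s = 0 := by
  have hl : ∀ l, X.basicOpen (g l) ≤ V ⊓ U := fun l => (le_iSup (fun l => X.basicOpen (g l)) l).trans hg.le
  have hiff : ∀ l, X.presheaf.map (homOfLE (X.basicOpen_le (g l))).op s = 0 ↔ ∃ m, g l ^ m * s = 0 := by
    intro l
    haveI := hV.isLocalization_basicOpen (g l)
    show algebraMap Γ(X, V) Γ(X, X.basicOpen (g l)) s = 0 ↔ _
    rw [IsLocalization.map_eq_zero_iff (Submonoid.powers (g l))]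
    constructor
    · rintro ⟨⟨_, m, rfl⟩, hm⟩; exact ⟨m, hm⟩
    · rintro ⟨m, hm⟩; exact ⟨⟨_, m, rfl⟩, hm⟩
  constructor
  · intro h
    choose m hm using fun l => (hiff l).1 (by
      rw [show (homOfLE (X.basicOpen_le (g l))) = homOfLE (hl l) ≫ homOfLE inf_le_left from rfl, op_comp,
        Functor.map_comp, CommRingCat.comp_apply, h, map_zero])
    refine ⟨Finset.univ.sup m, fun l => ?_⟩
    rw [← Nat.sub_add_cancel (Finset.le_sup (f := m) (Finset.mem_univ l)), pow_add, mul_assoc, hm, mul_zero]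
  · rintro ⟨N, hN⟩
    refine X.sheaf.eq_of_locally_eq' (fun l => X.basicOpen (g l)) (V ⊓ U) (fun l => homOfLE (hl l)) hg.ge _ _
      fun l => ?_
    refine Eq.trans (Eq.trans ?_ ((hiff l).2 ⟨N, hN l⟩)) (map_zero _).symm
    show (X.presheaf.map (homOfLE inf_le_left).op ≫ X.presheaf.map (homOfLE (hl l)).op) s = _
    rw [← Functor.map_comp]
    rfl

/-- The trace of an open on a Noetherian affine open is a finite union of basic opens. -/
theorem exists_basicOpens {X : Scheme.{u}} [IsLocallyNoetherian X] {V : X.Opens} (hV : IsAffineOpen V)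
    (U : X.Opens) : ∃ (n : ℕ) (g : Fin n → Γ(X, V)), (⨆ l, X.basicOpen (g l)) = V ⊓ U := by
  classical
  haveI : IsNoetherianRing Γ(X, V) := IsLocallyNoetherian.component_noetherian ⟨V, hV⟩
  let O : Set (PrimeSpectrum Γ(X, V)) := (hV.fromSpec ⁻¹ᵁ U).1
  have hc : IsCompact O := TopologicalSpace.NoetherianSpace.isCompact _
  obtain ⟨S, hS⟩ := PrimeSpectrum.isCompact_isOpen_iff.1 ⟨hc, (hV.fromSpec ⁻¹ᵁ U).2⟩
  refine ⟨S.toList.length, fun l => S.toList[l], ?_⟩
  apply le_antisymm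
  · refine iSup_le fun l => le_inf (X.basicOpen_le _) fun x hx => ?_
    rw [← hV.fromSpec_image_basicOpen] at hx
    obtain ⟨p, hp, rfl⟩ := hx
    refine (Set.ext_iff.1 hS p).1 ?_
    exact fun h => hp (h (Finset.mem_toList.1 (List.getElem_mem _)))
  · rintro x ⟨hxV, hxU⟩
    obtain ⟨p, rfl⟩ : x ∈ Set.range hV.fromSpec := hV.range_fromSpec.ge hxV
    obtain ⟨z, hz, hzp⟩ := Set.not_subset.1 ((Set.ext_iff.1 hS p).2 hxU)
    obtain ⟨l, hl⟩ := List.get_of_mem (Finset.mem_toList.2 hz)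
    refine Opens.mem_iSup.2 ⟨l, ?_⟩
    rw [← hV.fromSpec_image_basicOpen]
    refine ⟨p, ?_, rfl⟩
    rw [← hl] at hzp
    exact hzp

/-- A section killed by a factor is killed by the composite. -/
theorem app_eq_zero_of_factor {X Y Z : Scheme.{u}} {φ : X ⟶ Z} (ψ : X ⟶ Y) (χ : Y ⟶ Z) (e : φ = ψ ≫ χ)
    {V : Z.Opens} {s : Γ(Z, V)} (h : χ.app V s = 0) : φ.app V s = 0 := by
  subst e
  show ψ.app _ (χ.app V s) = 0
  rw [h, map_zero]

/-- Density upstairs for a flat morphism, if on an affine cover downstairs the sections vanishing on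
the open die upstairs. -/
theorem isSchematicallyDense_of_cover {X Y : Scheme.{u}} [IsLocallyNoetherian X] (f : Y ⟶ X) [Flat f]
    (U : X.Opens) (t : Finset X) (V : X → X.Opens) (hV : ∀ x, IsAffineOpen (V x))
    (hcov : ∀ x : X, ∃ y ∈ t, x ∈ V y)
    (h : ∀ x ∈ t, ∀ s : Γ(X, V x), X.presheaf.map (homOfLE (inf_le_left : V x ⊓ U ≤ V x)).op s = 0 →
      f.app (V x) s = 0) :
    CInt.IsSchematicallyDense (f ⁻¹ᵁ U) := by
  intro O
  rw [injective_iff_map_eq_zero]
  intro s hs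
  have hloc : ∀ y : O, ∃ (W : Y.Opens), y.1 ∈ W ∧ ∃ hW : W ≤ O, Y.presheaf.map (homOfLE hW).op s = 0 := by
    intro y
    obtain ⟨x, hx, hxy⟩ := hcov (f y.1)
    obtain ⟨W, hW, hyW, hWle⟩ := exists_isAffineOpen_mem_and_subset (x := y.1)
      (U := O ⊓ f ⁻¹ᵁ V x) ⟨y.2, hxy⟩
    have hWO : W ≤ O := fun z hz => (hWle hz).1
    have hWV : W ≤ f ⁻¹ᵁ V x := fun z hz => (hWle hz).2
    refine ⟨W, hyW, hWO, ?_⟩
    obtain ⟨n, g, hg⟩ := exists_basicOpens (hV x) U
    letI := (f.appLE (V x) W hWV).hom.toAlgebra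
    haveI : Module.Flat Γ(X, V x) Γ(Y, W) :=
      HasRingHomProperty.appLE @Flat f inferInstance ⟨V x, hV x⟩ ⟨W, hW⟩ hWV
    have hgY : (⨆ l, Y.basicOpen (f.appLE (V x) W hWV (g l))) = W ⊓ f ⁻¹ᵁ U := by
      simp only [Scheme.basicOpen_appLE]
      rw [← inf_iSup_eq, ← Scheme.Hom.preimage_iSup, hg, f.preimage_inf, ← inf_assoc, inf_eq_left.2 hWV]
    obtain ⟨N, hN⟩ := (map_inf_eq_zero_iff hW (f ⁻¹ᵁ U) _ hgY (Y.presheaf.map (homOfLE hWO).op s)).1 (by
      have hle : W ⊓ f ⁻¹ᵁ U ≤ O ⊓ f ⁻¹ᵁ U := inf_le_inf_right _ hWO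
      rw [← CommRingCat.comp_apply, ← Functor.map_comp]
      show Y.presheaf.map ((homOfLE (inf_le_left : O ⊓ f ⁻¹ᵁ U ≤ O)).op ≫ (homOfLE hle).op) s = 0
      rw [Functor.map_comp, CommRingCat.comp_apply, hs, map_zero])
    refine eq_zero_of_flat g N _ hN fun a ha => ?_
    have h0 := h x hx a ((map_inf_eq_zero_iff (hV x) U g hg a).2 ⟨N, ha⟩)
    show f.appLE (V x) W hWV a = 0
    rw [Scheme.Hom.appLE, CommRingCat.comp_apply, h0, map_zero]
  choose W hW hle hz using hloc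
  exact Y.sheaf.eq_of_locally_eq' W O (fun y => homOfLE (hle y))
    (fun y hy => Opens.mem_iSup.2 ⟨⟨y, hy⟩, hW ⟨y, hy⟩⟩) _ _ fun y => (hz y).trans (map_zero _).symm

end Groth.Agent.SchDenseLim
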